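import Groth.Agent.FibCrit.Stalk
import Mathlib.AlgebraicGeometry.Morphisms.Flat
import Mathlib.AlgebraicGeometry.Morphisms.UniversallyOpen
import Mathlib.RingTheory.Filtration
import Mathlib.RingTheory.Nakayama
import Mathlib.LinearAlgebra.TensorProduct.Quotient

/-!
# Functions killed by a section, without finiteness of the morphism

For a flat morphism of locally Noetherian schemes with only constant functions on a fibre, a function
near the fibre killed by a section has all germs along the fibre equal to zero.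
-/

set_option autoImplicit false
set_option backward.isDefEq.respectTransparency false

universe u

open CategoryTheory CategoryTheory.Limits AlgebraicGeometry TopologicalSpace Opposite TensorProduct IsLocalRing

namespace Groth.Agent.GitRigid

/-- colon ideals commute with flat extensions -/
theorem mem_map_of_mul_mem {R B : Type*} [CommRing R] [CommRing B] [Algebra R B] [Module.Flat R B]
    (I J : Ideal R) (a : R) (hJ : ∀ r, r * a ∈ I → r ∈ J) {b : B}
    (h : algebraMap R B a * b ∈ I.map (algebraMap R B)) : b ∈ J.map (algebraMap R B) := by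
  let φ : R →ₗ[R] R ⧸ I := LinearMap.toSpanSingleton R (R ⧸ I) (Submodule.Quotient.mk a)
  have hex : Function.Exact (Submodule.subtype (LinearMap.ker φ)) φ := φ.exact_subtype_ker_map
  have hex' := Module.Flat.lTensor_exact B hex
  have h0 : φ.lTensor B (b ⊗ₜ[R] (1 : R)) = 0 := by
    have e1 : φ 1 = a • (Submodule.Quotient.mk 1 : R ⧸ I) := by
      rw [LinearMap.toSpanSingleton_apply, one_smul, ← Submodule.Quotient.mk_smul, smul_eq_mul, mul_one]
    rw [LinearMap.lTensor_tmul, e1, ← TensorProduct.smul_tmul]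
    apply (TensorProduct.tensorQuotEquivQuotSMul B I).injective
    rw [map_zero]
    simp only [TensorProduct.tensorQuotEquivQuotSMul, LinearEquiv.trans_apply, TensorProduct.comm_tmul]
    erw [TensorProduct.quotTensorEquivQuotSMul_mk_tmul]
    rw [one_smul, Submodule.Quotient.mk_eq_zero, Ideal.smul_top_eq_map, Submodule.restrictScalars_mem,
      Algebra.smul_def]
    exact h
  obtain ⟨y, hy⟩ := (hex' _).mp h0
  have key : ∀ y : B ⊗[R] (LinearMap.ker φ),
      TensorProduct.rid R B ((Submodule.subtype (LinearMap.ker φ)).lTensor B y) ∈ J.map (algebraMap R B) := by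
    intro y
    induction y using TensorProduct.induction_on with
    | zero => simp
    | add y y' h h' => rw [map_add, map_add]; exact add_mem h h'
    | tmul c j =>
      rw [LinearMap.lTensor_tmul, TensorProduct.rid_tmul, Algebra.smul_def]
      refine Ideal.mul_mem_right _ _ (Ideal.mem_map_of_mem _ (hJ _ ?_))
      have := j.2
      rwa [LinearMap.mem_ker, LinearMap.toSpanSingleton_apply, ← Submodule.Quotient.mk_smul,
        Submodule.Quotient.mk_eq_zero, smul_eq_mul] at this
  have := key y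
  rwa [hy, TensorProduct.rid_tmul, one_smul] at this

/-- a minimal system of generators of a power of the maximal ideal -/
theorem exists_minimal_generators {R : Type*} [CommRing R] [IsLocalRing R] [IsNoetherianRing R] (n : ℕ) :
    ∃ (r : ℕ) (a : Fin r → R), Ideal.span (Set.range a) = maximalIdeal R ^ n ∧
      ∀ i, a i ∉ maximalIdeal R ^ (n + 1) ⊔ Ideal.span (a '' {i}ᶜ) := by
  classical
  have hex : ∃ r, ∃ a : Fin r → R, Ideal.span (Set.range a) = maximalIdeal R ^ n :=
    Submodule.fg_iff_exists_fin_generating_family.mp (IsNoetherian.noetherian _)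
  obtain ⟨a, ha⟩ := Nat.find_spec hex
  refine ⟨Nat.find hex, a, ha, ?_⟩
  generalize hr : Nat.find hex = r at a
  intro i hi
  cases r with
  | zero => exact i.elim0
  | succ k =>
    let N : Ideal R := Ideal.span (a '' {i}ᶜ)
    have hle : maximalIdeal R ^ n ≤ N ⊔ maximalIdeal R • maximalIdeal R ^ n := by
      rw [smul_eq_mul, ← pow_succ', sup_comm]
      conv_lhs => rw [← ha]
      rw [Ideal.span_le]
      rintro _ ⟨l, rfl⟩
      by_cases hl : l = i
      · exact hl ▸ hi
      · exact Submodule.mem_sup_right (Ideal.subset_span ⟨l, hl, rfl⟩)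
    have h2 : maximalIdeal R ^ n ≤ N := Submodule.le_of_le_smul_of_le_jacobson_bot
      (IsNoetherian.noetherian _) (maximalIdeal_le_jacobson _) hle
    refine Nat.find_min hex (show k < Nat.find hex by omega) ⟨a ∘ i.succAbove, ?_⟩
    rw [Set.range_comp, Fin.range_succAbove]
    refine le_antisymm ?_ h2
    rw [← ha]
    exact Ideal.span_mono (Set.image_subset_range _ _)

/-- coefficients with respect to minimal generators are well defined -/
theorem coeff_mem {R B : Type*} [CommRing R] [IsLocalRing R] [CommRing B] (f : R →+* B) (hf : f.Flat)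
    {n r : ℕ} (a : Fin r → R)
    (hmin : ∀ i, a i ∉ maximalIdeal R ^ (n + 1) ⊔ Ideal.span (a '' {i}ᶜ))
    (b : Fin r → B) (h : ∑ i, b i * f (a i) ∈ (maximalIdeal R ^ (n + 1)).map f) (i : Fin r) :
    b i ∈ (maximalIdeal R).map f := by
  classical
  let : Algebra R B := f.toAlgebra
  have : Module.Flat R B := hf
  refine mem_map_of_mul_mem (maximalIdeal R ^ (n + 1) ⊔ Ideal.span (a '' {i}ᶜ)) _ (a i) (fun r hr => ?_) ?_
  · by_contra hu
    exact hmin i ((Ideal.unit_mul_mem_iff_mem _ (IsLocalRing.notMem_maximalIdeal.mp hu)).mp hr)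
  · show f (a i) * b i ∈ Ideal.map f _
    have e : f (a i) * b i = (∑ j, b j * f (a j)) - ∑ j ∈ Finset.univ.erase i, b j * f (a j) := by
      rw [← Finset.sum_erase_add _ _ (Finset.mem_univ i), add_sub_cancel_left, mul_comm]
    rw [e]
    refine sub_mem (Ideal.map_mono le_sup_left h) (sum_mem fun j hj => ?_)
    exact Ideal.mul_mem_left _ _ (Ideal.mem_map_of_mem f (Submodule.mem_sup_right
      (Ideal.subset_span ⟨j, Finset.ne_of_mem_erase hj, rfl⟩)))

variable {X T : Scheme.{u}} (g : X ⟶ T)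

/-- the map of local rings to a point over `t` -/
noncomputable def pull {t : T} (x : X) (h : g x = t) : T.presheaf.stalk t ⟶ X.presheaf.stalk x :=
  T.presheaf.stalkSpecializes (specializes_of_eq h) ≫ g.stalkMap x

theorem pull_germ {t : T} (x : X) (h : g x = t) (U : T.Opens) (ht : t ∈ U) (V : X.Opens)
    (hV : V ≤ g ⁻¹ᵁ U) (hx : x ∈ V) (a : Γ(T, U)) :
    pull g x h (T.presheaf.germ U t ht a) = X.presheaf.germ V x hx (g.appLE U V hV a) := by
  subst h
  simp only [pull, TopCat.Presheaf.stalkSpecializes_refl, Category.id_comp]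
  rw [Scheme.Hom.germ_stalkMap_apply, Scheme.Hom.appLE, CommRingCat.comp_apply, TopCat.Presheaf.germ_res_apply]

theorem pull_flat [Flat g] {t : T} (x : X) (h : g x = t) : (pull g x h).hom.Flat := by
  subst h
  simp only [pull, TopCat.Presheaf.stalkSpecializes_refl, Category.id_comp]
  exact Flat.stalkMap g x

theorem map_pull {t : T} (x : X) (h : g x = t) :
    (maximalIdeal (T.presheaf.stalk t)).map (pull g x h).hom =
      (maximalIdeal (T.presheaf.stalk (g x))).map (g.stalkMap x).hom := by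
  subst h
  simp only [pull, TopCat.Presheaf.stalkSpecializes_refl, Category.id_comp]

theorem ker_fiberι (t : T) (z : g.fiber t) (h : g (g.fiberι t z) = t) :
    RingHom.ker ((g.fiberι t).stalkMap z).hom =
      (maximalIdeal (T.presheaf.stalk t)).map (pull g (g.fiberι t z) h).hom :=
  (Groth.Agent.FibCrit.fiberι_stalkMap g t z).2.trans (map_pull g _ h).symm

/-- a function near a fibre with only constant functions, killed by a section, vanishes along the fibre -/
theorem germ_eq_zero [Flat g] [IsLocallyNoetherian X] [IsLocallyNoetherian T] (t : T)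
    (h0 : Function.Surjective (g.fiberToSpecResidueField t).appTop)
    (σ : T ⟶ X) (hσ : σ ≫ g = 𝟙 T) (V : X.Opens) (hV : ∀ x, g x = t → x ∈ V) (φ : Γ(X, V))
    (hσV : σ t ∈ V) (hφ : σ.stalkMap t (X.presheaf.germ V (σ t) hσV φ) = 0)
    (x : X) (hx : g x = t) : X.presheaf.germ V x (hV x hx) φ = 0 := by
  classical
  let R := T.presheaf.stalk t
  have hgσ : g (σ t) = t := by rw [← Scheme.Hom.comp_apply, hσ]; rfl
  have hσpull : ∀ r : R, σ.stalkMap t (pull g (σ t) hgσ r) = r := by
    intro r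
    obtain ⟨U, ht, a, rfl⟩ := T.presheaf.exists_germ_eq r
    have hm : σ t ∈ g ⁻¹ᵁ U := by show g (σ t) ∈ U; rwa [hgσ]
    rw [pull_germ g _ hgσ U ht (g ⁻¹ᵁ U) le_rfl hm, Scheme.Hom.germ_stalkMap_apply,
      ← Scheme.Hom.app_eq_appLE]
    have e : σ.app (g ⁻¹ᵁ U) (g.app U a) = (σ ≫ g).app U a := by rw [Scheme.Hom.comp_app]; rfl
    rw [e]
    simp [Scheme.Hom.congr_app hσ U]
    exact TopCat.Presheaf.germ_res_apply' T.presheaf _ _ _ _
  suffices key : ∀ (n : ℕ) (x : X) (hx : g x = t),
      X.presheaf.germ V x (hV x hx) φ ∈ (maximalIdeal R ^ n).map (pull g x hx).hom by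
    have hne : (maximalIdeal R).map (pull g x hx).hom ≠ ⊤ := by
      obtain ⟨z, rfl⟩ : x ∈ Set.range (g.fiberι t) := by rw [g.range_fiberι]; exact hx
      rw [← ker_fiberι g t z hx]
      exact RingHom.ker_ne_top _
    rw [← Ideal.mem_bot, ← Ideal.iInf_pow_eq_bot_of_isLocalRing _ hne, Submodule.mem_iInf]
    exact fun n => by rw [← Ideal.map_pow]; exact key n x hx
  intro n
  induction n with
  | zero => intro x hx; rw [pow_zero, Ideal.one_eq_top, Ideal.map_top]; trivial
  | succ n ih =>
    obtain ⟨r, a, ha, hmin⟩ := exists_minimal_generators (R := R) n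
    choose U htU at' hat using fun i => T.presheaf.exists_germ_eq (a i)
    -- local coefficients
    have hloc : ∀ x : {x : X // g x = t}, ∃ (W : X.Opens) (b : Fin r → Γ(X, W)), x.1 ∈ W ∧
        ∀ (y : X) (hy : g y = t) (hyW : y ∈ W), X.presheaf.germ V y (hV y hy) φ =
          ∑ i, X.presheaf.germ W y hyW (b i) * pull g y hy (a i) := by
      rintro ⟨x, hx⟩
      have hmem := ih x hx
      rw [← ha, Ideal.map_span, ← Set.range_comp, Ideal.mem_span_range_iff_exists_fun] at hmem
      obtain ⟨c, hc⟩ := hmem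
      choose O hxO b hb using fun i => X.presheaf.exists_germ_eq (c i)
      let W₀ : X.Opens := V ⊓ ⟨⋂ i, ((O i : Set X) ∩ g ⁻¹' (U i : Set T)),
        isOpen_iInter_of_finite fun i => (O i).2.inter ((U i).2.preimage g.continuous)⟩
      have hxW₀ : x ∈ W₀ := ⟨hV x hx, Set.mem_iInter.mpr fun i =>
        ⟨hxO i, show g x ∈ U i by rw [hx]; exact htU i⟩⟩
      have hWO : ∀ i, W₀ ≤ O i := fun i y hy => (Set.mem_iInter.mp hy.2 i).1
      have hWU : ∀ i, W₀ ≤ g ⁻¹ᵁ U i := fun i y hy => (Set.mem_iInter.mp hy.2 i).2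
      let S : Γ(X, W₀) := ∑ i, X.presheaf.map (homOfLE (hWO i)).op (b i) * g.appLE (U i) W₀ (hWU i) (at' i)
      have hS : X.presheaf.germ V x (hV x hx) φ = X.presheaf.germ W₀ x hxW₀ S := by
        rw [← hc, map_sum]
        refine Finset.sum_congr rfl fun i _ => ?_
        rw [map_mul, TopCat.Presheaf.germ_res_apply, hb, ← pull_germ g x hx (U i) (htU i) W₀ (hWU i) hxW₀, hat]
        rfl
      obtain ⟨W, hxW, iV, iW, hW⟩ := X.presheaf.germ_eq x (hV x hx) hxW₀ φ S hS
      refine ⟨W, fun i => X.presheaf.map (iW ≫ homOfLE (hWO i)).op (b i), hxW, fun y hy hyW => ?_⟩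
      have e := congrArg (X.presheaf.germ W y hyW) hW
      rw [TopCat.Presheaf.germ_res_apply, TopCat.Presheaf.germ_res_apply] at e
      rw [e, map_sum]
      refine Finset.sum_congr rfl fun i _ => ?_
      rw [map_mul, TopCat.Presheaf.germ_res_apply, TopCat.Presheaf.germ_res_apply,
        ← pull_germ g y hy (U i) (htU i) W₀ (hWU i) (iW.le hyW), hat]
    choose W b hxW hb using hloc
    let p := g.fiberι t
    let Z := g.fiber t
    have hpt : ∀ z : Z, g (p z) = t := fun z => by
      have : p z ∈ Set.range p := ⟨z, rfl⟩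
      rwa [g.range_fiberι] at this
    -- they glue to functions on the fibre
    have hglue : ∀ i, ∃ c : Γ(Z, ⊤), ∀ x,
        Z.presheaf.map (homOfLE le_top).op c = p.app (W x) (b x i) := by
      intro i
      obtain ⟨c, hc, -⟩ := Z.sheaf.existsUnique_gluing' (fun x => p ⁻¹ᵁ W x) ⊤ (fun _ => homOfLE le_top)
        (fun z _ => Opens.mem_iSup.mpr ⟨⟨p z, hpt z⟩, hxW ⟨p z, hpt z⟩⟩) (fun x => p.app (W x) (b x i)) (by
          intro x x'
          refine TopCat.Presheaf.section_ext Z.sheaf _ _ _ fun z hz => ?_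
          show Z.presheaf.germ _ z hz (Z.presheaf.map _ _) = Z.presheaf.germ _ z hz (Z.presheaf.map _ _)
          rw [TopCat.Presheaf.germ_res_apply, TopCat.Presheaf.germ_res_apply,
            ← Scheme.Hom.germ_stalkMap_apply p (W x) z hz.1, ← Scheme.Hom.germ_stalkMap_apply p (W x') z hz.2,
            ← sub_eq_zero, ← map_sub]
          refine (RingHom.mem_ker (f := (p.stalkMap z).hom)).mp ?_
          rw [ker_fiberι g t z (hpt z)]
          refine coeff_mem _ (pull_flat g _ (hpt z)) a hmin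
            (fun j => X.presheaf.germ (W x) (p z) hz.1 (b x j) - X.presheaf.germ (W x') (p z) hz.2 (b x' j)) ?_ i
          simp only [sub_mul, Finset.sum_sub_distrib]
          rw [← hb x (p z) (hpt z) hz.1, ← hb x' (p z) (hpt z) hz.2, sub_self]
          exact zero_mem _)
      exact ⟨c, hc⟩
    choose c hc using hglue
    let x₀ : {x : X // g x = t} := ⟨σ t, hgσ⟩
    have hnb : ∀ i, σ t ∉ X.basicOpen (b x₀ i) := by
      intro i hi
      rw [Scheme.mem_basicOpen _ _ _ (hxW x₀)] at hi
      have h1 := hb x₀ (σ t) hgσ (hxW x₀)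
      have h2 := congrArg (σ.stalkMap t) h1
      rw [hφ, map_sum] at h2
      simp only [map_mul, hσpull] at h2
      have h3 := coeff_mem (RingHom.id R) (RingHom.Flat.id _) a hmin
        (fun j => σ.stalkMap t (X.presheaf.germ (W x₀) (σ t) (hxW x₀) (b x₀ j))) (by
          simp only [RingHom.id_apply]; rw [← h2]; exact zero_mem _) i
      rw [Ideal.map_id] at h3
      exact h3 (hi.map (σ.stalkMap t).hom)
    have hc0 : ∀ i, c i = 0 := by
      intro i
      obtain ⟨μ', hμ⟩ := h0 (c i)
      suffices μ' = 0 by rw [← hμ, this, map_zero]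
      by_contra hne
      have hbo : (Spec (T.residueField t)).basicOpen μ' = ⊤ := by
        have hnb' : (Spec (T.residueField t)).basicOpen μ' ≠ ⊥ := fun h => hne ((basicOpen_eq_bot_iff _).mp h)
        refine eq_top_iff.mpr fun w _ => ?_
        obtain ⟨w', hw'⟩ := Set.nonempty_iff_ne_empty.mpr fun h => hnb' (Opens.ext h)
        have : Subsingleton (Spec (T.residueField t)) := inferInstanceAs (Subsingleton (PrimeSpectrum _))
        exact Subsingleton.elim w' w ▸ hw'
      obtain ⟨z₀, hz₀⟩ : σ t ∈ Set.range p := by rw [g.range_fiberι]; exact hgσ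
      refine hnb i ?_
      have hzW : z₀ ∈ p ⁻¹ᵁ W x₀ := by show p z₀ ∈ W x₀; rw [hz₀]; exact hxW x₀
      have hall : z₀ ∈ Z.basicOpen (c i) := by
        rw [← hμ, ← Scheme.preimage_basicOpen_top, hbo]; trivial
      have h1 : z₀ ∈ Z.basicOpen (p.app (W x₀) (b x₀ i)) := by
        rw [← hc i x₀, Scheme.basicOpen_res]
        exact ⟨hzW, hall⟩
      rw [← Scheme.preimage_basicOpen] at h1
      rw [← hz₀]
      exact h1
    intro x hx
    obtain ⟨z, rfl⟩ : x ∈ Set.range p := by rw [g.range_fiberι]; exact hx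
    rw [hb ⟨p z, hpt z⟩ (p z) hx (hxW _)]
    refine sum_mem fun i _ => ?_
    have hbm : X.presheaf.germ (W ⟨p z, hpt z⟩) (p z) (hxW _) (b ⟨p z, hpt z⟩ i) ∈
        (maximalIdeal R).map (pull g (p z) hx).hom := by
      rw [← ker_fiberι g t z hx, RingHom.mem_ker]
      show p.stalkMap z _ = 0
      rw [Scheme.Hom.germ_stalkMap_apply, ← hc i ⟨p z, hpt z⟩, hc0 i, map_zero, map_zero]
    rw [pow_succ', Ideal.map_mul]
    refine Ideal.mul_mem_mul hbm (Ideal.mem_map_of_mem _ ?_)
    rw [← ha]
    exact Ideal.subset_span ⟨i, rfl⟩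

/-- open and stable under specialisation implies closed, on a locally Noetherian scheme -/
theorem isClosed_of_stable [IsLocallyNoetherian T] {V : Set T} (hVo : IsOpen V)
    (hV : StableUnderSpecialization V) : IsClosed V := by
  rw [← closure_subset_iff_isClosed]
  intro p hp
  obtain ⟨U, hU, hpU, -⟩ := exists_isAffineOpen_mem_and_subset (X := T) (x := p) (U := ⊤) trivial
  have : NoetherianSpace U.toScheme := by
    have := IsLocallyNoetherian.component_noetherian ⟨U, hU⟩
    exact noetherianSpace_of_isAffineOpen U hU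
  have hp' : (⟨p, hpU⟩ : U) ∈ closure (Subtype.val ⁻¹' V) :=
    (U.2.isOpenMap_subtype_val.preimage_closure_eq_closure_preimage continuous_subtype_val V).le hp
  have hfin := NoetherianSpace.finite_irreducibleComponents (α := U)
  let K : Set U := ⋃ Z ∈ {Z ∈ irreducibleComponents U | (Z ∩ Subtype.val ⁻¹' V).Nonempty}, Z
  have hK : IsClosed K := (hfin.subset fun Z hZ => hZ.1).isClosed_biUnion
    fun Z hZ => isClosed_of_mem_irreducibleComponents Z hZ.1
  have hVK : (Subtype.val ⁻¹' V : Set U) ⊆ K := fun q hq => Set.mem_biUnion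
    (x := irreducibleComponent q)
    ⟨irreducibleComponent_mem_irreducibleComponents q, q, mem_irreducibleComponent, hq⟩
    mem_irreducibleComponent
  obtain ⟨Z, ⟨hZ, q, hqZ, hqV⟩, hpZ⟩ := Set.mem_iUnion₂.mp (closure_minimal hVK hK hp')
  obtain ⟨η, hη⟩ := QuasiSober.sober hZ.1 (isClosed_of_mem_irreducibleComponents Z hZ)
  have hq : η.1 ⤳ q.1 := (hη.specializes hqZ).map continuous_subtype_val
  exact hV ((hη.specializes hpZ).map continuous_subtype_val) (hq.mem_open hVo hqV)

/-- Rigidity for a flat closed map with a section. -/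
theorem eq_of_collapsed [Flat g] [IsLocallyNoetherian X] [IsLocallyNoetherian T] [ConnectedSpace T]
    (hcl : IsClosedMap g.base)
    (h0 : ∀ t, Function.Surjective (g.fiberToSpecResidueField t).appTop)
    (σ : T ⟶ X) (hσ : σ ≫ g = 𝟙 T) {Y : Scheme.{u}} (q : Y ⟶ T) [IsSeparated q] (f : X ⟶ Y)
    (hf : f ≫ q = g) (t₀ : T) (ht₀ : ∀ x, g x = t₀ → f x = f (σ t₀)) : f = g ≫ σ ≫ f := by
  have hσt : ∀ t, g (σ t) = t := fun t => by rw [← Scheme.Hom.comp_apply, hσ]; rfl
  let f' := g ≫ σ ≫ f
  let X' : Over T := Over.mk g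
  let f₁ : X' ⟶ Over.mk q := Over.homMk f hf
  let f₂ : X' ⟶ Over.mk q := Over.homMk f' (by
    simp only [f', X', Over.mk_left, Over.mk_hom, Category.assoc, hf]
    rw [hσ]; exact Category.comp_id g)
  have : IsSeparated (Over.mk q).hom := ‹IsSeparated q›
  let e : (equalizer f₁ f₂).left ⟶ X := (equalizer.ι f₁ f₂).left
  have : IsClosedImmersion e := inferInstanceAs (IsClosedImmersion (equalizer.ι f₁ f₂).left)
  have he : e ≫ f = e ≫ f' := congrArg CommaMorphism.left (equalizer.condition f₁ f₂)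
  let Wc : Set T := {t | ∀ x, g x = t → x ∈ Set.range e}
  -- a collapsed fibre has a neighbourhood on which the two maps agree
  have hnbhd : ∀ t, (∀ x, g x = t → f x = f (σ t)) → ∃ U : T.Opens, t ∈ U ∧
      (g ⁻¹ᵁ U).ι ≫ f = (g ⁻¹ᵁ U).ι ≫ f' := by
    intro t ht
    obtain ⟨V, hV, hyV, -⟩ := exists_isAffineOpen_mem_and_subset (X := Y) (x := f (σ t)) (U := ⊤) trivial
    have : IsAffine (V : Scheme.{u}) := hV
    let C : Set T := g '' ((f ⁻¹ᵁ V : X.Opens) : Set X)ᶜ
    let U : T.Opens := (⟨Cᶜ, (hcl _ (f ⁻¹ᵁ V).2.isClosed_compl).isOpen_compl⟩ : T.Opens) ⊓ (σ ≫ f) ⁻¹ᵁ V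
    have htU : t ∈ U := by
      refine ⟨?_, by show (σ ≫ f) t ∈ V; rw [Scheme.Hom.comp_apply]; exact hyV⟩
      rintro ⟨x, hx, hxt⟩
      exact hx (show f x ∈ V by rw [ht x hxt]; exact hyV)
    refine ⟨U, htU, ?_⟩
    let W := g ⁻¹ᵁ U
    have h1 : W ≤ f ⁻¹ᵁ V := fun x hx => by
      by_contra h
      exact hx.1 ⟨x, h, rfl⟩
    have h2 : W ≤ f' ⁻¹ᵁ V := fun x hx => by
      show f' x ∈ V
      rw [Scheme.Hom.comp_apply]
      exact hx.2
    have key : f.appLE V W h1 = f'.appLE V W h2 := by
      ext v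
      rw [← sub_eq_zero]
      refine TopCat.Presheaf.section_ext X.sheaf _ _ _ fun x hx => ?_
      rw [map_zero]
      have hmem : ∀ y, g y = g x → y ∈ W := fun y hy => by show g y ∈ U; rw [hy]; exact hx
      refine germ_eq_zero g (g x) (h0 _) σ hσ W hmem _ (hmem _ (hσt _)) ?_ x rfl
      have hUσ : U ≤ σ ⁻¹ᵁ W := fun u hu => by show g (σ u) ∈ U; rw [hσt]; exact hu
      have e0 : (f.appLE V W h1 ≫ σ.appLE W U hUσ) v = (f'.appLE V W h2 ≫ σ.appLE W U hUσ) v := by
        rw [Scheme.Hom.appLE_comp_appLE, Scheme.Hom.appLE_comp_appLE]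
        simp only [f', reassoc_of% hσ]
      rw [map_sub, map_sub, sub_eq_zero]
      have e1 := congrArg (T.presheaf.germ U (g x) hx) e0
      simp only [CommRingCat.comp_apply, Scheme.Hom.appLE, TopCat.Presheaf.germ_res_apply] at e1
      rw [Scheme.Hom.germ_stalkMap_apply, Scheme.Hom.germ_stalkMap_apply]
      exact e1
    have hres : f.resLE V W h1 = f'.resLE V W h2 := by
      refine ext_of_isAffine ?_
      simp only [Scheme.Hom.appTop, Scheme.Hom.resLE_app_top]
      rw [key]
    rw [← Scheme.Hom.resLE_comp_ι f h1, hres, Scheme.Hom.resLE_comp_ι f' h2]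
  have hcoll : ∀ t ∈ Wc, ∀ x, g x = t → f x = f (σ t) := by
    intro t ht x hx
    obtain ⟨z, rfl⟩ := ht x hx
    rw [← Scheme.Hom.comp_apply, he, Scheme.Hom.comp_apply, Scheme.Hom.comp_apply, hx, Scheme.Hom.comp_apply]
  have hsub : ∀ U : T.Opens, (g ⁻¹ᵁ U).ι ≫ f = (g ⁻¹ᵁ U).ι ≫ f' → ∀ t ∈ U, t ∈ Wc := by
    intro U hU t ht x hx
    let m : Over.mk ((g ⁻¹ᵁ U).ι ≫ g) ⟶ X' := Over.homMk (g ⁻¹ᵁ U).ι rfl
    let l := equalizer.lift m (Over.OverMorphism.ext (hU : m.left ≫ f₁.left = m.left ≫ f₂.left) : m ≫ f₁ = m ≫ f₂)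
    refine ⟨l.left ⟨x, show g x ∈ U by rw [hx]; exact ht⟩, ?_⟩
    change (l.left ≫ e) _ = x
    rw [show l.left ≫ e = m.left by rw [← Over.comp_left, equalizer.lift_ι]]
    rfl
  have hopen : IsOpen Wc := by
    rw [isOpen_iff_forall_mem_open]
    intro t ht
    obtain ⟨U, htU, hU⟩ := hnbhd t (hcoll t ht)
    exact ⟨U, fun t' ht' => hsub U hU t' ht', U.2, htU⟩
  have hclosed : IsClosed Wc := by
    refine isClosed_of_stable hopen fun t t' htt' ht x hx => ?_
    by_contra hxe
    obtain ⟨x', hx', hx't⟩ := Flat.generalizingMap g (show t ⤳ g x by rw [hx]; exact htt')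
    exact hxe (e.isClosedEmbedding.isClosed_range.stableUnderSpecialization hx' (ht x' hx't))
  have hne : Wc.Nonempty := by
    obtain ⟨U, htU, hU⟩ := hnbhd t₀ ht₀
    exact ⟨t₀, hsub U hU t₀ htU⟩
  have htop : Wc = Set.univ := (IsClopen.eq_univ ⟨hclosed, hopen⟩ hne)
  refine Scheme.Cover.hom_ext (X.openCoverOfIsOpenCover (fun t : T => g ⁻¹ᵁ (hnbhd t (hcoll t (htop ▸ trivial))).choose) ?_)
    _ _ fun t => (hnbhd t (hcoll t (htop ▸ trivial))).choose_spec.2
  exact eq_top_iff.2 fun x _ => Opens.mem_iSup.2 ⟨g x, (hnbhd (g x) (hcoll _ (htop ▸ trivial))).choose_spec.1⟩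

end Groth.Agent.GitRigid
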